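import Mathlib

/-!
# Quasi-compact opens of `X_A` come from finitely generated subalgebras
-/

set_option autoImplicit false
set_option backward.isDefEq.respectTransparency false
set_option linter.style.haveILetI false

universe u

open CategoryTheory CategoryTheory.Limits AlgebraicGeometry
open scoped TensorProduct

namespace Groth.Agent.FlatMorQcDescend

variable {k : Type u} [CommRing k] {X : Scheme.{u}} (p : X ⟶ Spec (CommRingCat.of k))

/-- `X_A`. -/
noncomputable abbrev XA (A : Type u) [CommRing A] [Algebra k A] : Scheme.{u} :=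
  pullback p (Spec.map (CommRingCat.ofHom (algebraMap k A)))

variable {A A' A'' : Type u} [CommRing A] [Algebra k A] [CommRing A'] [Algebra k A'] [CommRing A'']
  [Algebra k A'']

theorem specMap_algHom (φ : A' →ₐ[k] A) :
    Spec.map (CommRingCat.ofHom φ.toRingHom) ≫ Spec.map (CommRingCat.ofHom (algebraMap k A')) =
      Spec.map (CommRingCat.ofHom (algebraMap k A)) := by
  rw [← Spec.map_comp, ← CommRingCat.ofHom_comp]
  exact congrArg (fun r => Spec.map (CommRingCat.ofHom r)) (RingHom.ext φ.commutes)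

/-- The transition morphism `X_A ⟶ X_{A'}`. -/
noncomputable def tr (φ : A' →ₐ[k] A) : XA p A ⟶ XA p A' :=
  pullback.lift (pullback.fst _ _) (pullback.snd _ _ ≫ Spec.map (CommRingCat.ofHom φ.toRingHom))
    (by rw [Category.assoc, specMap_algHom]; exact pullback.condition)

@[simp, reassoc]
theorem tr_fst (φ : A' →ₐ[k] A) : tr p φ ≫ pullback.fst _ _ = pullback.fst _ _ := by simp [tr]

@[simp, reassoc]
theorem tr_snd (φ : A' →ₐ[k] A) :
    tr p φ ≫ pullback.snd _ _ = pullback.snd _ _ ≫ Spec.map (CommRingCat.ofHom φ.toRingHom) := by simp [tr]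

theorem tr_comp (φ : A'' →ₐ[k] A') (ψ : A' →ₐ[k] A) : tr p ψ ≫ tr p φ = tr p (ψ.comp φ) := by
  apply pullback.hom_ext
  · simp
  · rw [Category.assoc, tr_snd, tr_snd_assoc, tr_snd, ← Spec.map_comp, ← CommRingCat.ofHom_comp]
    rfl

instance isAffineHom_tr (φ : A' →ₐ[k] A) : IsAffineHom (tr p φ) := by
  haveI : IsAffineHom (pullback.fst p (Spec.map (CommRingCat.ofHom (algebraMap k A')))) :=
    MorphismProperty.pullback_fst _ _ inferInstance
  haveI : IsAffineHom (pullback.fst p (Spec.map (CommRingCat.ofHom (algebraMap k A)))) :=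
    MorphismProperty.pullback_fst _ _ inferInstance
  haveI : IsAffineHom (tr p φ ≫ pullback.fst p (Spec.map (CommRingCat.ofHom (algebraMap k A')))) := by
    rw [tr_fst]; infer_instance
  exact IsAffineHom.of_comp (tr p φ) (pullback.fst p (Spec.map (CommRingCat.ofHom (algebraMap k A'))))

variable {B : Type u} [CommRing B] [Algebra k B] (e : Spec (CommRingCat.of B) ⟶ X) [IsOpenImmersion e]
  (he : e ≫ p = Spec.map (CommRingCat.ofHom (algebraMap k B)))

variable (A) in
/-- The chart of `X_A` over an affine chart of `X`. -/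
noncomputable def chart : Spec (CommRingCat.of (B ⊗[k] A)) ⟶ XA p A :=
  (pullbackSpecIso k B A).inv ≫ pullback.map _ _ p (Spec.map (CommRingCat.ofHom (algebraMap k A))) e (𝟙 _) (𝟙 _)
    (by rw [Category.comp_id, he]) (by simp)

instance isOpenImmersion_chart : IsOpenImmersion (chart p A e he) := by
  haveI : IsOpenImmersion (pullback.map (Spec.map (CommRingCat.ofHom (algebraMap k B))) (Spec.map (CommRingCat.ofHom (algebraMap k A)))
      p (Spec.map (CommRingCat.ofHom (algebraMap k A))) e (𝟙 _) (𝟙 _) (by rw [Category.comp_id, he]) (by simp)) :=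
    MorphismProperty.pullbackMap (P := @IsOpenImmersion.{u}) inferInstance inferInstance he.symm (by simp)
  exact inferInstanceAs (IsOpenImmersion ((pullbackSpecIso k B A).inv ≫ _))

omit [IsOpenImmersion e] in
theorem range_chart :
    Set.range (chart p A e he) = pullback.fst p (Spec.map (CommRingCat.ofHom (algebraMap k A))) ⁻¹' Set.range e := by
  rw [chart, Scheme.Hom.comp_base, TopCat.coe_comp, Set.range_comp,
    Set.range_eq_univ.2 (pullbackSpecIso k B A).inv.surjective, Set.image_univ, Scheme.Pullback.range_map]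
  simp

theorem chart_tr (φ : A' →ₐ[k] A) :
    chart p A e he ≫ tr p φ =
      Spec.map (CommRingCat.ofHom (Algebra.TensorProduct.map (AlgHom.id k B) φ).toRingHom) ≫ chart p A' e he := by
  apply pullback.hom_ext
  · simp only [chart, Category.assoc, tr_fst, pullback.lift_fst, pullbackSpecIso_inv_fst_assoc,
      ← Spec.map_comp_assoc, ← CommRingCat.ofHom_comp]
    congr 3
    ext b
    simp
  · simp only [chart, Category.assoc, tr_snd, pullback.lift_snd, pullback.lift_snd_assoc, Category.comp_id,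
      pullbackSpecIso_inv_snd_assoc, pullbackSpecIso_inv_snd, ← Spec.map_comp, ← CommRingCat.ofHom_comp]
    congr 2

theorem preimage_chart (φ : A' →ₐ[k] A) (S : Set (Spec (CommRingCat.of (B ⊗[k] A')))) :
    tr p φ ⁻¹' (chart p A' e he '' S) = chart p A e he ''
      (Spec.map (CommRingCat.ofHom (Algebra.TensorProduct.map (AlgHom.id k B) φ).toRingHom) ⁻¹' S) := by
  ext w
  constructor
  · rintro ⟨s, hs, hsw⟩
    have hw : w ∈ Set.range (chart p A e he) := by
      rw [range_chart, Set.mem_preimage, ← tr_fst p φ, Scheme.Hom.comp_apply, ← hsw]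
      have : chart p A' e he s ∈ Set.range (chart p A' e he) := ⟨s, rfl⟩
      rwa [range_chart] at this
    obtain ⟨t, rfl⟩ := hw
    refine ⟨t, ?_, rfl⟩
    rw [← Scheme.Hom.comp_apply, chart_tr, Scheme.Hom.comp_apply] at hsw
    rw [Set.mem_preimage, ← (chart p A' e he).isOpenEmbedding.injective hsw]
    exact hs
  · rintro ⟨t, ht, rfl⟩
    exact ⟨_, ht, by rw [← Scheme.Hom.comp_apply, ← chart_tr, Scheme.Hom.comp_apply]⟩

theorem exists_local (V : Set (XA p A)) (hV : IsOpen V) {v : XA p A} (hv : v ∈ V) :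
    ∃ (A₁ : Subalgebra k A), A₁.FG ∧ ∃ W : Set (XA p A₁), IsOpen W ∧ IsCompact W ∧
      v ∈ tr p A₁.val ⁻¹' W ∧ tr p A₁.val ⁻¹' W ⊆ V := by
  obtain ⟨U, hU, hxU, -⟩ := exists_isAffineOpen_mem_and_subset
    (x := pullback.fst p (Spec.map (CommRingCat.ofHom (algebraMap k A))) v) (U := (⊤ : X.Opens)) trivial
  obtain ⟨ψ, hψ⟩ := Spec.map_surjective (hU.fromSpec ≫ p)
  letI : Algebra k Γ(X, U) := ψ.hom.toAlgebra
  let B := Γ(X, U)
  have he : hU.fromSpec ≫ p = Spec.map (CommRingCat.ofHom (algebraMap k Γ(X, U))) := hψ.symm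
  obtain ⟨t, rfl⟩ : v ∈ Set.range (chart p A hU.fromSpec he) := by
    rw [range_chart, Set.mem_preimage, hU.range_fromSpec]; exact hxU
  obtain ⟨_, ⟨h, rfl⟩, hth, hhV⟩ := PrimeSpectrum.isTopologicalBasis_basic_opens.exists_subset_of_mem_open
    (show t ∈ chart p A hU.fromSpec he ⁻¹' V from hv) (hV.preimage (chart p A hU.fromSpec he).continuous)
  classical
  obtain ⟨S, hS⟩ := TensorProduct.exists_finset h
  let A₁ : Subalgebra k A := Algebra.adjoin k ((S.image Prod.snd : Finset A) : Set A)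
  let h' : B ⊗[k] A₁ := ∑ i ∈ S.attach, i.1.1 ⊗ₜ (⟨i.1.2, Algebra.subset_adjoin (by
    simp only [Finset.coe_image, Set.mem_image]; exact ⟨i.1, i.2, rfl⟩)⟩ : A₁)
  have hh : Algebra.TensorProduct.map (AlgHom.id k B) A₁.val h' = h := by
    rw [map_sum, hS, ← Finset.sum_attach S]
    simp
  let D' : Set (Spec (CommRingCat.of (B ⊗[k] A₁))) := ((PrimeSpectrum.basicOpen h' : TopologicalSpace.Opens (PrimeSpectrum (B ⊗[k] A₁))) : Set (PrimeSpectrum (B ⊗[k] A₁)))
  have hpre : Spec.map (CommRingCat.ofHom (Algebra.TensorProduct.map (AlgHom.id k B) A₁.val).toRingHom) ⁻¹'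
      D' = ((PrimeSpectrum.basicOpen h : TopologicalSpace.Opens (PrimeSpectrum (B ⊗[k] A))) : Set (PrimeSpectrum (B ⊗[k] A))) := by
    rw [← hh]
    rfl
  refine ⟨A₁, ⟨_, rfl⟩, chart p A₁ hU.fromSpec he '' D', ?_, ?_, ?_, ?_⟩
  · exact (chart p A₁ hU.fromSpec he).isOpenEmbedding.isOpenMap _ (PrimeSpectrum.basicOpen h').2
  · exact (PrimeSpectrum.isCompact_basicOpen h').image (chart p A₁ hU.fromSpec he).continuous
  · rw [preimage_chart, hpre]; exact ⟨t, hth, rfl⟩
  · rw [preimage_chart, hpre, Set.image_subset_iff]; exact hhV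

set_option maxHeartbeats 1000000 in
/-- A quasi-compact open of `X_A` comes from a quasi-compact open over a finitely generated subalgebra. -/
theorem exists_descend (V : Set (XA p A)) (hV : IsOpen V) (hVc : IsCompact V) :
    ∃ A₁ : Subalgebra k A, A₁.FG ∧ ∃ W : Set (XA p A₁), IsOpen W ∧ IsCompact W ∧ tr p A₁.val ⁻¹' W = V := by
  choose Av hAv Wv hWo hWc hmem hsub using fun v : V => exists_local p V hV v.2
  obtain ⟨t, ht⟩ := hVc.elim_finite_subcover (fun v : V => tr p (Av v).val ⁻¹' Wv v)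
    (fun v => (hWo v).preimage (tr p (Av v).val).continuous)
    fun v hv => Set.mem_iUnion.2 ⟨⟨v, hv⟩, hmem ⟨v, hv⟩⟩
  obtain ⟨A₁, hfg, hle⟩ : ∃ A₁ : Subalgebra k A, A₁.FG ∧ ∀ v ∈ t, Av v ≤ A₁ :=
    ⟨t.sup Av, Finset.sup_induction Subalgebra.fg_bot (fun _ ha _ hb => ha.sup hb) fun v _ => hAv v,
      fun v hv => Finset.le_sup hv⟩
  let g : t → Set (XA p A₁) := fun v => tr p (Subalgebra.inclusion (hle v.1 v.2)) ⁻¹' Wv v.1
  have hgo : ∀ v, IsOpen (g v) := fun v => (hWo v.1).preimage (tr p (Subalgebra.inclusion (hle v.1 v.2))).continuous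
  have hgc : ∀ v, IsCompact (g v) := fun v =>
    QuasiCompact.isCompact_preimage (f := tr p (Subalgebra.inclusion (hle v.1 v.2))) (Wv v.1) (hWo v.1) (hWc v.1)
  refine ⟨A₁, hfg, ⋃ v, g v, isOpen_iUnion hgo, isCompact_iUnion hgc, ?_⟩
  have key : ∀ v : t, tr p A₁.val ⁻¹' g v = tr p (Av v.1).val ⁻¹' Wv v.1 := fun v => by
    have h1 : A₁.val.comp (Subalgebra.inclusion (hle v.1 v.2)) = (Av v.1).val := AlgHom.ext fun _ => rfl
    rw [← h1, ← tr_comp]
    rfl
  rw [Set.preimage_iUnion, Set.iUnion_congr key]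
  refine Set.Subset.antisymm (Set.iUnion_subset fun v => hsub v.1) fun w hw => ?_
  obtain ⟨v, hv, hw'⟩ := Set.mem_iUnion₂.1 (ht hw)
  exact Set.mem_iUnion.2 ⟨⟨v, hv⟩, hw'⟩

end Groth.Agent.FlatMorQcDescend
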